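import Cfsg.Agent.Lib.Char.FrobSylowClassSum
import Cfsg.Agent.Lib.Char.FreeInvolution.Basic
import Cfsg.Agent.Lib.Char.SectionSqrt
import Cfsg.Agent.Lib.Char.RankOne
import Mathlib

/-!
# Abelian Sylow 2-subgroups with an automizer of prime order and without fixed points
-/

set_option autoImplicit false
set_option linter.unusedSectionVars false
set_option linter.style.haveILetI false

namespace Cfsg.Agent.Char.PrimeInertia

open Cfsg Cfsg.Agent.Char Cfsg.Agent.Char.FreeInv

universe u

variable {G : Type u} [Group G] [Fintype G] {P : Sylow 2 G}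

theorem relIndex_eq_card_autGrp :
    (Subgroup.centralizer ((P : Subgroup G) : Set G)).relIndex
      (Subgroup.normalizer ((P : Subgroup G) : Set G)) = Nat.card (autGrp P) := by
  rw [autGrp, ← Subgroup.index_ker, Subgroup.normalizerMonoidHom_ker]
  rfl

/-- An automizer of prime order without fixed points acts freely. -/
theorem free_of_prime {m : ℕ} (hm : m.Prime) (hcard : Nat.card (autGrp P) = m)
    (hfix : ∀ u : (P : Subgroup G), (∀ α ∈ autGrp P, α u = u) → u = 1) (u : (P : Subgroup G))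
    (hu : u ≠ 1) : IsFree P u := by
  intro α hα h
  by_contra hne
  haveI := Fact.mk hm
  have hz : Subgroup.zpowers (⟨α, hα⟩ : autGrp P) = ⊤ :=
    zpowers_eq_top_of_prime_card hcard fun e => hne (congrArg Subtype.val e)
  refine hu (hfix u fun β hβ => ?_)
  obtain ⟨k, hk⟩ := Subgroup.mem_zpowers_iff.mp (hz ▸ Subgroup.mem_top (⟨β, hβ⟩ : autGrp P))
  have hle : Subgroup.zpowers α ≤ MulAction.stabilizer (MulAut (P : Subgroup G)) u :=
    Subgroup.zpowers_le.mpr h
  exact hle ⟨k, (SubgroupClass.coe_zpow (⟨α, hα⟩ : autGrp P) k).symm.trans (congrArg Subtype.val hk)⟩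

/-- The Frobenius hypotheses. -/
theorem frobSylow (hab : IsMulCommutative (P : Subgroup G)) {m : ℕ}
    (hcard : Nat.card (autGrp P) = m) (h1 : Nat.card (P : Subgroup G) ≠ 1)
    (hfree : ∀ u : (P : Subgroup G), u ≠ 1 → IsFree P u) : FrobSylow P m := by
  refine ⟨hab, h1, relIndex_eq_card_autGrp.trans hcard, fun y hy hy1 => le_antisymm ?_ ?_⟩
  · rintro n ⟨hnC, hnN⟩
    have h := hfree ⟨y, hy⟩ (fun e => hy1 (congrArg Subtype.val e)) _ ⟨⟨n, hnN⟩, rfl⟩ (Subtype.ext (by
      show n * y * n⁻¹ = y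
      rw [Subgroup.mem_centralizer_singleton_iff.mp hnC, mul_inv_cancel_right]))
    refine Subgroup.mem_centralizer_iff.mpr fun z hz => (mul_inv_eq_iff_eq_mul.mp ?_).symm
    exact congrArg Subtype.val (DFunLike.congr_fun h (⟨z, hz⟩ : (P : Subgroup G)))
  · intro n hn
    exact ⟨Subgroup.mem_centralizer_singleton_iff.mpr (Subgroup.mem_centralizer_iff.mp hn y hy).symm,
      Subgroup.centralizer_le_normalizer _ hn⟩

variable {m : ℕ}

open scoped Classical in
/-- The classes meeting the non-identity elements of a subset invariant under fusion. -/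
theorem card_mul_of_invariant (h : FrobSylow P m) (S : Finset ↥(P : Subgroup G))
    (hS : ∀ y ∈ S, (y : G) ≠ 1 ∧ ∀ w : ↥(P : Subgroup G), IsConj (y : G) (w : G) → w ∈ S) :
    (S.image fun y : ↥(P : Subgroup G) => ConjClasses.mk (y : G)).card * m = S.card := by
  rw [Finset.card_eq_sum_card_image (fun y : ↥(P : Subgroup G) => ConjClasses.mk (y : G)) S,
    Finset.sum_congr rfl (g := fun _ => m) fun c hc => ?_, Finset.sum_const, smul_eq_mul]
  obtain ⟨y, hy, rfl⟩ := Finset.mem_image.mp hc
  rw [← h.card_clP (hS y hy).1]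
  refine congrArg Finset.card ?_
  ext w
  simp only [Finset.mem_filter, mem_clP, ConjClasses.mk_eq_mk_iff_isConj]
  exact ⟨fun hw => hw.2.symm, fun hw => ⟨(hS y hy).2 w hw, hw.symm⟩⟩

/-- An invariant subgroup has order congruent to one modulo the automizer. -/
theorem le_card_invariant (h : FrobSylow P m) (R : Subgroup (P : Subgroup G))
    (hR : ∀ α ∈ autGrp P, ∀ u ∈ R, α u ∈ R) (hne : R ≠ ⊥) : m + 1 ≤ Nat.card R := by
  classical
  obtain ⟨u, hu, hu1⟩ := (Subgroup.ne_bot_iff_exists_ne_one.mp hne).elim fun s hs =>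
    (⟨s.1, s.2, fun e => hs (Subtype.ext e)⟩ : ∃ s, s ∈ R ∧ s ≠ 1)
  set S := (Finset.univ.filter fun y : (P : Subgroup G) => y ∈ R).erase 1 with hS
  have hc := card_mul_of_invariant h S (fun y hy => by
    obtain ⟨hy1, hyR⟩ := Finset.mem_erase.mp hy
    refine ⟨fun e => hy1 (Subtype.ext e), fun w hw => Finset.mem_erase.mpr ⟨?_, ?_⟩⟩
    · rintro rfl
      exact hy1 (Subtype.ext (isConj_one_left.mp hw))
    · obtain ⟨α, hα, e⟩ := exists_aut_of_isConj h.comm hw
      exact Finset.mem_filter.mpr ⟨Finset.mem_univ _, e ▸ hR α hα y (Finset.mem_filter.mp hyR).2⟩)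
  have h1 : 1 ≤ (S.image fun y : ↥(P : Subgroup G) => ConjClasses.mk (y : G)).card :=
    Finset.card_pos.mpr ⟨_, Finset.mem_image_of_mem _
      (Finset.mem_erase.mpr ⟨hu1, Finset.mem_filter.mpr ⟨Finset.mem_univ _, hu⟩⟩)⟩
  have h2 : S.card + 1 = Nat.card R := by
    rw [hS, Finset.card_erase_add_one (by simp), Nat.card_eq_fintype_card, Fintype.card_subtype]
  have h3 := Nat.mul_le_mul_right m h1
  omega

/-- The order of a non-elementary Sylow subgroup. -/
theorem sq_le_card (h : FrobSylow P m) (hne : ∃ u ∈ (P : Subgroup G), u * u ≠ 1) :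
    (m + 1) * (m + 1) ≤ Nat.card (P : Subgroup G) := by
  haveI := h.comm
  letI : CommGroup (P : Subgroup G) :=
    { (inferInstance : Group (P : Subgroup G)) with mul_comm := fun a b => mul_comm' a b }
  let sq : (P : Subgroup G) →* (P : Subgroup G) :=
    { toFun := fun u => u * u
      map_one' := one_mul 1
      map_mul' := fun a b => mul_mul_mul_comm a b a b }
  obtain ⟨u, hu, hu2⟩ := hne
  have hr : sq.range ≠ ⊥ := by
    intro e
    have h0 : sq ⟨u, hu⟩ ∈ sq.range := ⟨⟨u, hu⟩, rfl⟩
    rw [e, Subgroup.mem_bot] at h0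
    exact hu2 (congrArg Subtype.val h0)
  have hk : sq.ker ≠ ⊥ := by
    intro e
    obtain ⟨z, hz⟩ := exists_prime_orderOf_dvd_card' (G := (P : Subgroup G)) 2 (by
      obtain ⟨k, hk⟩ := IsPGroup.iff_card.mp P.isPGroup'
      rcases k with _ | k
      · exact absurd hk h.nontriv
      · exact ⟨2 ^ k, by rw [hk, pow_succ, mul_comm]⟩)
    have hz1 : z ∈ sq.ker := by
      show z * z = 1
      rw [← pow_two]
      exact orderOf_dvd_iff_pow_eq_one.mp (dvd_of_eq hz)
    rw [e, Subgroup.mem_bot] at hz1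
    rw [hz1, orderOf_one] at hz
    omega
  have h1 := le_card_invariant h sq.ker (fun α _ r hr => by
    have e : r * r = 1 := hr
    show α r * α r = 1
    rw [← map_mul, e, map_one]) hk
  have h2 := le_card_invariant h sq.range (fun α _ r hr => by
    obtain ⟨w, rfl⟩ := hr
    exact ⟨α w, (map_mul α w w).symm⟩) hr
  rw [← Subgroup.card_mul_index sq.ker, Subgroup.index_ker]
  exact Nat.mul_le_mul h1 h2

open scoped Classical in
/-- The number of characters is the rank plus the number of non-identity classes of the Sylow subgroup. -/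
theorem card_eq_rank_add {M : Ideal AlgInt} (hM : IsPModular 2 M) (h : FrobSylow P m) :
    ∃ r : ℕ, r * m + 1 = Nat.card (P : Subgroup G) ∧
      Nat.card (principalBlock M G) = blockRank 2 (principalBlock M G) + r := by
  have hp : Nat.Prime 2 := Nat.prime_two
  set S := nonOne P with hS
  set C := S.image fun y : ↥(P : Subgroup G) => ConjClasses.mk (y : G) with hC
  have hc : C.card * m = S.card := card_mul_of_invariant h S (fun y hy => by
    refine ⟨mem_nonOne.mp hy, fun w hw => mem_nonOne.mpr fun e => mem_nonOne.mp hy ?_⟩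
    rw [e] at hw
    exact isConj_one_left.mp hw)
  have hScard : S.card + 1 = Nat.card (P : Subgroup G) := by
    rw [hS, show nonOne P = Finset.univ.erase 1 by ext y; simp [mem_nonOne],
      Finset.card_erase_add_one (Finset.mem_univ _), Finset.card_univ, Nat.card_eq_fintype_card]
  have hrep : ∀ c : ↥C, ∃ y : ↥(P : Subgroup G), (y : G) ≠ 1 ∧ ConjClasses.mk (y : G) = c.1 := fun c => by
    obtain ⟨y, hy, e⟩ := Finset.mem_image.mp c.2
    exact ⟨y, mem_nonOne.mp hy, e⟩
  choose f hf1 hfc using hrep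
  have hinj : Function.Injective fun c : ↥C => ((f c : ↥(P : Subgroup G)) : G) := fun a b e => by
    apply Subtype.ext
    rw [← hfc a, ← hfc b]
    exact congrArg ConjClasses.mk e
  set R : Finset G := Finset.univ.image fun c : ↥C => ((f c : ↥(P : Subgroup G)) : G) with hR
  have h1R : (1 : G) ∉ R := fun hm => by
    obtain ⟨c, -, e⟩ := Finset.mem_image.mp hm
    exact hf1 c e
  have hX : ∀ x ∈ insert (1 : G) R, ∃ k : ℕ, orderOf x = 2 ^ k := fun x hx => by
    rcases Finset.mem_insert.mp hx with rfl | hx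
    · exact ⟨0, by simp⟩
    · obtain ⟨c, -, rfl⟩ := Finset.mem_image.mp hx
      exact FrobSylow.ppower (f c)
  refine ⟨C.card, by rw [hc, hScard], ?_⟩
  rw [card_principal_eq_sum hM (insert (1 : G) R) hX (fun g hg => ?_), Finset.sum_insert h1R,
    blockRank_principal_centralizer_one hM, Finset.sum_congr rfl (g := fun _ => 1) fun x hx => ?_]
  · rw [Finset.sum_const, smul_eq_mul, mul_one, hR, Finset.card_image_of_injective _ hinj,
      Finset.card_univ, Fintype.card_coe]
  · obtain ⟨c, -, rfl⟩ := Finset.mem_image.mp hx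
    obtain ⟨V, hVn, hV2, -, hV⟩ := h.hnpc_centralizer (hf1 c)
    haveI : Fintype (Subgroup.centralizer ({(f c : G)} : Set G)) := Fintype.ofFinite _
    exact (blockRank_principal_eq_one_iff hM).mpr
      (hnpc_iff_regular.mpr ⟨V, hVn, hV2, fun v hv => (hV v).mp hv⟩)
  · obtain ⟨y, hy⟩ := FrobSylow.exists_conj_ppt (P := P) g
    rw [ppt_of_ppower hp hg] at hy
    by_cases hy1 : (y : G) = 1
    · have hg1 : g = 1 := isConj_one_left.mp (hy1 ▸ hy)
      subst hg1
      refine ⟨1, ⟨Finset.mem_insert_self _ _, IsConj.refl _⟩, fun x ⟨_, hx⟩ => ?_⟩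
      exact isConj_one_right.mp hx
    · set c : ↥C := ⟨ConjClasses.mk (y : G), Finset.mem_image_of_mem _ (mem_nonOne.mpr hy1)⟩ with hcdef
      refine ⟨(f c : G), ⟨Finset.mem_insert_of_mem (Finset.mem_image_of_mem _ (Finset.mem_univ c)),
        hy.trans (ConjClasses.mk_eq_mk_iff_isConj.mp (hfc c)).symm⟩, fun x ⟨hx, hgx⟩ => ?_⟩
      rcases Finset.mem_insert.mp hx with rfl | hx
      · rw [isConj_one_left.mp hgx] at hy
        exact absurd (isConj_one_right.mp hy) hy1
      · obtain ⟨c', -, rfl⟩ := Finset.mem_image.mp hx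
        refine congrArg (fun c : ↥C => ((f c : ↥(P : Subgroup G)) : G)) (Subtype.ext ?_)
        rw [hcdef, ← hfc c']
        exact ConjClasses.mk_eq_mk_iff_isConj.mpr (hgx.symm.trans hy)

end Cfsg.Agent.Char.PrimeInertia
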