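import Cfsg.Agent.Lib.Char.PrimeInertia.Main
import Mathlib

/-!
# Passing to the normal subgroup generated by the elements of odd order
-/

set_option autoImplicit false
set_option linter.unusedSectionVars false
set_option linter.style.haveILetI false

namespace Cfsg.Agent.Char.PrimeInertia

open Cfsg Cfsg.Agent.Char Cfsg.Agent.Char.FreeInv

universe u

variable {G : Type u} [Group G] [Fintype G] {P : Sylow 2 G}

/-- The automizer is unchanged in a normal subgroup supplemented by the Sylow subgroup. -/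
theorem card_autGrp_eq (hab : IsMulCommutative (P : Subgroup G)) (N : Subgroup G) [hN : N.Normal]
    (hsup : N ⊔ (P : Subgroup G) = ⊤) (S : Sylow 2 N)
    (hS : (S : Subgroup N) = ((P : Subgroup G) ⊓ N).subgroupOf N) :
    Nat.card (autGrp S) = Nat.card (autGrp P) := by
  classical
  haveI : Fact (Nat.Prime 2) := ⟨Nat.prime_two⟩
  haveI := hab
  have hSP : ∀ s : N, s ∈ (S : Subgroup N) ↔ (s : G) ∈ (P : Subgroup G) := fun s => by
    rw [hS, Subgroup.mem_subgroupOf, Subgroup.mem_inf]
    exact ⟨fun h => h.1, fun h => ⟨h, s.2⟩⟩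
  have hdec : ∀ g : G, ∃ w ∈ N, ∃ p ∈ (P : Subgroup G), w * p = g := fun g =>
    Subgroup.mem_sup_of_normal_left.mp (hsup ▸ Subgroup.mem_top g)
  set NP := Subgroup.normalizer ((P : Subgroup G) : Set G) with hNP
  have hnorm : ∀ n : ↥(NP.subgroupOf N), (n : N) ∈ Subgroup.normalizer ((S : Subgroup N) : Set N) := by
    intro n
    rw [Subgroup.mem_normalizer_iff]
    intro s
    simp only [hSP, Subgroup.coe_mul, InvMemClass.coe_inv]
    exact Subgroup.mem_normalizer_iff.mp (Subgroup.mem_subgroupOf.mp n.2) (s : G)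
  let σ : ↥(NP.subgroupOf N) →* autGrp P := (P : Subgroup G).normalizerMonoidHom.rangeRestrict.comp
    ((N.subtype.comp (NP.subgroupOf N).subtype).codRestrict NP fun n => n.2)
  let ρ : ↥(NP.subgroupOf N) →* autGrp S := (S : Subgroup N).normalizerMonoidHom.rangeRestrict.comp
    ((NP.subgroupOf N).subtype.codRestrict _ hnorm)
  have hσ : Function.Surjective σ := by
    rintro ⟨_, ⟨⟨n, hn⟩, rfl⟩⟩
    obtain ⟨w, hw, p, hp, e⟩ := hdec n
    have hwn : w ∈ NP := by
      rw [show w = n * p⁻¹ from eq_mul_inv_of_mul_eq e]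
      exact mul_mem hn (inv_mem (Subgroup.le_normalizer hp))
    refine ⟨⟨⟨w, hw⟩, hwn⟩, Subtype.ext (MulEquiv.ext fun u => Subtype.ext ?_)⟩
    show w * u * w⁻¹ = n * u * n⁻¹
    rw [← e, show w * p * u * (w * p)⁻¹ = w * (p * u * p⁻¹) * w⁻¹ by group,
      comm_of_isMulCommutative hab hp u.2, mul_inv_cancel_right]
  have hρ : Function.Surjective ρ := by
    rintro ⟨_, ⟨⟨n, hn⟩, rfl⟩⟩
    set C := Subgroup.centralizer (((S : Subgroup N).map N.subtype : Subgroup G) : Set G) with hC
    have hPC : (P : Subgroup G) ≤ C := fun p hp => Subgroup.mem_centralizer_iff.mpr fun s hs => by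
      obtain ⟨s', hs', rfl⟩ := hs
      exact comm_of_isMulCommutative hab ((hSP s').mp hs') hp
    set P' : Sylow 2 G := (n : G) • P with hP'
    have hP'C : (P' : Subgroup G) ≤ C := by
      rw [hP', Sylow.coe_subgroup_smul]
      rintro _ ⟨p, hp, rfl⟩
      refine Subgroup.mem_centralizer_iff.mpr fun s hs => ?_
      obtain ⟨s', hs', rfl⟩ := hs
      have h1 : n⁻¹ * s' * n ∈ (S : Subgroup N) := by
        have h := (Subgroup.mem_normalizer_iff.mp (inv_mem hn) s').mp hs'
        rwa [inv_inv] at h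
      have h2 := Subgroup.mem_centralizer_iff.mp (hPC hp) _ ⟨_, h1, rfl⟩
      simp only [Subgroup.coe_subtype, Subgroup.coe_mul, InvMemClass.coe_inv] at h2 ⊢
      show (s' : G) * ((n : G) * p * (n : G)⁻¹) = (n : G) * p * (n : G)⁻¹ * s'
      calc (s' : G) * ((n : G) * p * (n : G)⁻¹)
          = (n : G) * (((n : G)⁻¹ * s' * n) * p) * (n : G)⁻¹ := by group
        _ = (n : G) * (p * ((n : G)⁻¹ * s' * n)) * (n : G)⁻¹ := by rw [h2]
        _ = (n : G) * p * (n : G)⁻¹ * s' := by group
    obtain ⟨c, hc⟩ := MulAction.exists_smul_eq C (P'.subtype hP'C) (P.subtype hPC)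
    obtain ⟨p, hp, w, hw, e⟩ : ∃ p ∈ (P : Subgroup G), ∃ w ∈ N, p * w = (c : G) := by
      obtain ⟨w, hw, p, hp, e⟩ := hdec (c : G)⁻¹
      exact ⟨p⁻¹, inv_mem hp, w⁻¹, inv_mem hw, by rw [← mul_inv_rev, e, inv_inv]⟩
    have hwC : w ∈ C := by
      have h := C.mul_mem (C.inv_mem (hPC hp)) c.2
      rwa [← e, inv_mul_cancel_left] at h
    have hcP : ∀ u ∈ (P : Subgroup G), (c : G) * ((n : G) * u * (n : G)⁻¹) * (c : G)⁻¹ ∈ (P : Subgroup G) := by
      intro u hu
      have hu' : (n : G) * u * (n : G)⁻¹ ∈ (P' : Subgroup G) := by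
        rw [hP', Sylow.coe_subgroup_smul]
        exact ⟨u, hu, rfl⟩
      have h1 : c * (⟨_, hP'C hu'⟩ : C) * c⁻¹ ∈ (P.subtype hPC : Subgroup C) := by
        rw [← hc]
        exact ⟨_, hu', rfl⟩
      exact h1
    have hwn : w * (n : G) ∈ NP := by
      rw [hNP, Subgroup.mem_normalizer_iff]
      have key : ∀ u ∈ (P : Subgroup G), w * (n : G) * u * (w * (n : G))⁻¹ ∈ (P : Subgroup G) := by
        intro u hu
        have h := mul_mem (mul_mem (inv_mem hp) (hcP u hu)) hp
        rwa [← e, show p⁻¹ * (p * w * ((n : G) * u * (n : G)⁻¹) * (p * w)⁻¹) * p =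
          w * (n : G) * u * (w * (n : G))⁻¹ by group] at h
      intro u
      refine ⟨key u, fun hu => ?_⟩
      have hmap : (P : Subgroup G).map (MulAut.conj (w * (n : G))).toMonoidHom = (P : Subgroup G) := by
        refine Subgroup.eq_of_le_of_card_ge ?_ ?_
        · rintro _ ⟨v, hv, rfl⟩
          exact key v hv
        · rw [Subgroup.card_map_of_injective (MulEquiv.injective _)]
      rw [← hmap] at hu
      obtain ⟨v, hv, hve⟩ := hu
      rwa [(MulAut.conj (w * (n : G))).injective (show MulAut.conj (w * (n : G)) v =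
        MulAut.conj (w * (n : G)) u from hve)] at hv
    refine ⟨⟨⟨w, hw⟩ * n, hwn⟩, Subtype.ext (MulEquiv.ext fun s => Subtype.ext (Subtype.ext ?_))⟩
    show w * (n : G) * ((s : N) : G) * (w * (n : G))⁻¹ = (n : G) * ((s : N) : G) * (n : G)⁻¹
    have h1 : n * s * n⁻¹ ∈ (S : Subgroup N) := (Subgroup.mem_normalizer_iff.mp hn _).mp s.2
    have h2 := Subgroup.mem_centralizer_iff.mp hwC _ ⟨_, h1, rfl⟩
    simp only [Subgroup.coe_subtype, Subgroup.coe_mul, InvMemClass.coe_inv] at h2
    calc w * (n : G) * ((s : N) : G) * (w * (n : G))⁻¹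
        = w * ((n : G) * ((s : N) : G) * (n : G)⁻¹) * w⁻¹ := by group
      _ = (n : G) * ((s : N) : G) * (n : G)⁻¹ := by rw [← h2, mul_inv_cancel_right]
  have hker : σ.ker = ρ.ker := by
    ext n
    rw [MonoidHom.mem_ker, MonoidHom.mem_ker]
    constructor
    · intro h
      refine Subtype.ext (MulEquiv.ext fun s => Subtype.ext (Subtype.ext ?_))
      have h2 := congrArg Subtype.val (DFunLike.congr_fun (congrArg Subtype.val h)
        (⟨_, (hSP s).mp s.2⟩ : (P : Subgroup G)))
      exact h2
    · intro h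
      refine Subtype.ext (MulEquiv.ext fun u => ?_)
      set α : MulAut (P : Subgroup G) := (σ n : MulAut (P : Subgroup G)) with hα
      set d : (P : Subgroup G) := u⁻¹ * α u with hd
      have hdN : (d : G) ∈ N := by
        show (u : G)⁻¹ * (((n : N) : G) * u * ((n : N) : G)⁻¹) ∈ N
        rw [show (u : G)⁻¹ * (((n : N) : G) * u * ((n : N) : G)⁻¹) =
          ((u : G)⁻¹ * ((n : N) : G) * u) * ((n : N) : G)⁻¹ by group]
        exact mul_mem (hN.conj_mem' _ (n : N).2 _) (inv_mem (n : N).2)
      have hfixd : α d = d := by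
        have h2 := congrArg Subtype.val (congrArg Subtype.val (DFunLike.congr_fun (congrArg Subtype.val h)
          (⟨⟨(d : G), hdN⟩, (hSP _).mpr d.2⟩ : (S : Subgroup N))))
        exact Subtype.ext h2
      have hpow : ∀ k : ℕ, (α ^ k) u = u * d ^ k := by
        intro k
        induction k with
        | zero => simp
        | succ k ih =>
          rw [pow_succ', MulAut.mul_apply, ih, map_mul, map_pow, hfixd, pow_succ', ← mul_assoc]
          congr 1
          rw [hd, mul_inv_cancel_left]
      have h3 := hpow (Nat.card (autGrp P))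
      rw [show α ^ Nat.card (autGrp P) = 1 from
        (SubgroupClass.coe_pow (σ n) _).symm.trans (congrArg Subtype.val pow_card_eq_one')] at h3
      have hd1 : d = 1 := by
        have hcop : (Nat.card (P : Subgroup G)).Coprime (Nat.card (autGrp P)) := by
          obtain ⟨i, hi⟩ := IsPGroup.iff_card.mp P.isPGroup'
          rw [hi]
          exact ((Nat.coprime_two_left).mpr (odd_card_autGrp hab)).pow_left i
        refine orderOf_eq_one_iff.mp (Nat.eq_one_of_dvd_coprimes hcop (orderOf_dvd_natCard d) ?_)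
        exact orderOf_dvd_of_pow_eq_one (mul_left_cancel (a := u) (by rw [← h3]; simp))
      show α u = u
      rw [hd, inv_mul_eq_one] at hd1
      exact hd1.symm
  rw [← Nat.card_congr (QuotientGroup.quotientKerEquivOfSurjective σ hσ).toEquiv,
    ← Nat.card_congr (QuotientGroup.quotientKerEquivOfSurjective ρ hρ).toEquiv, hker]

/-- The invariants of the principal block. -/
theorem invariants {M : Ideal AlgInt} (hM : IsPModular 2 M) (hab : IsMulCommutative (P : Subgroup G))
    {m : ℕ} (hm : m.Prime) (hcard : Nat.card (autGrp P) = m) :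
    blockRank 2 (principalBlock M G) = m ∧
      (¬ Group.IsSolvable G → Nat.card (principalBlock M G) = Nat.card (P : Subgroup G)) := by
  classical
  haveI : Fact (Nat.Prime 2) := ⟨Nat.prime_two⟩
  set N := pResidual 2 G with hNdef
  haveI : Fintype N := Fintype.ofFinite _
  obtain ⟨k, hk⟩ := IsPGroup.iff_card.mp (Fusion.isPGroup_quotient_pResidual (p := 2) (G := G))
  rw [← hNdef, ← Subgroup.index_eq_card] at hk
  have hP := pmod_prime hM
  have hstab : ∀ g : G, StabilizesBlock N (principalBlock M N) g := by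
    intro g
    refine ⟨by rw [Subgroup.normalizer_eq_top]; exact Subgroup.mem_top g, fun χ hχ => ?_⟩
    refine ⟨irrComp (MulAut.conjNormal g⁻¹ : N ≃* N) χ, ?_, fun a b e => ?_⟩
    · exact sameBlock_irrComp (MulAut.conjNormal g⁻¹) (χ := ⟨fun _ => 1, isIrrCharacter_one⟩) hχ
    · rw [irrComp_apply]
      refine congrArg _ (Subtype.ext ?_)
      rw [MulAut.conjNormal_apply, e]
      group
  obtain ⟨hsup, hdef, -, -, hcardB, hrank⟩ := stable_abelian_defect hM hk
    (isPBlock_principalBlock (G := N) M) hstab (isPBlock_principalBlock (G := G) M)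
    ⟨⟨fun _ => 1, isIrrCharacter_one⟩, one_mem_principal hM, ⟨fun _ => 1, isIrrCharacter_one⟩,
      one_mem_principal hM, by
        show classInner (fun _ : N => (1 : ℂ)) (fun _ => 1) ≠ 0
        rw [irr_self isIrrCharacter_one]
        exact one_ne_zero⟩
    ((S4652.result 2 M hM _).mpr ⟨P, rfl⟩)
    (fun a ha b hb => comm_of_isMulCommutative hab ha hb)
  obtain ⟨S, hS⟩ := (S4652.result 2 M hM _).mp hdef
  have hSab : IsMulCommutative (S : Subgroup N) := by
    refine ⟨⟨fun a b => Subtype.ext (Subtype.ext ?_)⟩⟩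
    have h : ∀ s : (S : Subgroup N), ((s : N) : G) ∈ (P : Subgroup G) := fun s => by
      have h' : (s : N) ∈ ((P : Subgroup G) ⊓ N).subgroupOf N := hS.le s.2
      exact (Subgroup.mem_inf.mp (Subgroup.mem_subgroupOf.mp h')).1
    exact comm_of_isMulCommutative hab (h a) (h b)
  obtain ⟨h1, h2⟩ := top_case hM hSab hm ((card_autGrp_eq hab N hsup S hS).trans hcard)
    Fusion.pResidual_pResidual
  refine ⟨hrank.trans h1, fun hns => ?_⟩
  have hNs : ¬ Group.IsSolvable N := fun h => by
    haveI := h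
    haveI : Group.IsSolvable (G ⧸ N) := by
      haveI := (Fusion.isPGroup_quotient_pResidual (p := 2) (G := G)).isNilpotent
      infer_instance
    exact hns (Group.isSolvable_of_ker_le_range N.subtype (QuotientGroup.mk' N) (by simp))
  rw [hcardB, h2 hNs, S.card_eq_multiplicity, P.card_eq_multiplicity, hk, ← N.card_mul_index, hk,
    Nat.factorization_mul Nat.card_pos.ne' (pow_ne_zero _ Nat.prime_two.ne_zero), Finsupp.add_apply,
    Nat.factorization_pow_self Nat.prime_two, pow_add, mul_comm]

end Cfsg.Agent.Char.PrimeInertia
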