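import Cfsg.Agent.Lib.Char.FrobSylowInvolution
import Cfsg.Agent.Lib.Char.PrimeInertia.Basic
import Mathlib

/-!
# A non-elementary Sylow 2-subgroup with free automizer

No product of two involutions has a 2-part of order at least four. The resulting relation between the
exceptional characters of the principal block puts the Sylow subgroup into the kernel of a non-trivial
character of that block.
-/

set_option autoImplicit false
set_option linter.unusedSectionVars false
set_option linter.style.haveILetI false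

namespace Cfsg.Agent.Char.PrimeInertia

open Cfsg Cfsg.Agent.Char
open scoped ComplexConjugate

universe u

variable {G : Type u} [Group G] [Fintype G] {P : Sylow 2 G} {m : ℕ}

/-- An involution inverts no element of order at least four of a commutative Sylow subgroup. -/
theorem not_inverts (h : FrobSylow P m) {a : G} (ha : a ^ 2 = 1) {y : G}
    (hy : y ∈ (P : Subgroup G)) (hy2 : y * y ≠ 1) : a * y * a⁻¹ ≠ y⁻¹ := by
  haveI : Fact (Nat.Prime 2) := ⟨Nat.prime_two⟩
  intro e
  set Y := Subgroup.zpowers y with hY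
  have hYp : IsPGroup 2 Y := by
    obtain ⟨k, hk⟩ := IsPGroup.iff_orderOf.mp P.isPGroup' ⟨y, hy⟩
    rw [Subgroup.orderOf_mk] at hk
    exact IsPGroup.of_card (by rw [hY, Nat.card_zpowers, hk])
  have hAp : IsPGroup 2 (Subgroup.zpowers a) := by
    obtain ⟨i, -, hi⟩ := (Nat.dvd_prime_pow Nat.prime_two).mp
      (orderOf_dvd_of_pow_eq_one (by rwa [pow_one]) : orderOf a ∣ 2 ^ 1)
    exact IsPGroup.of_card (by rw [Nat.card_zpowers, hi])
  have hsq : a * a = 1 := by rwa [← pow_two]
  have hai : a⁻¹ = a := inv_eq_of_mul_eq_one_right hsq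
  have han : Subgroup.zpowers a ≤ Subgroup.normalizer (Y : Set G) := by
    rw [Subgroup.zpowers_le, Subgroup.mem_normalizer_iff]
    have key : ∀ w ∈ Y, a * w * a⁻¹ ∈ Y := by
      intro w hw
      obtain ⟨k, rfl⟩ := Subgroup.mem_zpowers_iff.mp hw
      rw [← conj_zpow, e]
      exact Subgroup.zpow_mem _ (inv_mem (Subgroup.mem_zpowers y)) k
    refine fun w => ⟨key w, fun hw => ?_⟩
    have h2 := key _ hw
    rwa [show a * (a * w * a⁻¹) * a⁻¹ = (a * a) * w * (a * a)⁻¹ by group, hsq, one_mul, inv_one,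
      mul_one] at h2
  obtain ⟨S, hS⟩ := (hAp.to_sup_of_normal_right' hYp han).exists_le_sylow
  haveI := h.comm
  obtain ⟨g, hg⟩ := MulAction.exists_smul_eq G S P
  have hmem : ∀ z ∈ (S : Subgroup G), g * z * g⁻¹ ∈ (P : Subgroup G) := fun z hz => by
    rw [← hg, Sylow.coe_subgroup_smul]
    exact ⟨z, hz, rfl⟩
  have hc := congrArg Subtype.val (mul_comm'
    (⟨_, hmem a (hS (Subgroup.mem_sup_left (Subgroup.mem_zpowers a)))⟩ : (P : Subgroup G))
    ⟨_, hmem y (hS (Subgroup.mem_sup_right (Subgroup.mem_zpowers y)))⟩)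
  change g * a * g⁻¹ * (g * y * g⁻¹) = g * y * g⁻¹ * (g * a * g⁻¹) at hc
  rw [conj_mul, conj_mul, mul_right_cancel_iff, mul_left_cancel_iff] at hc
  rw [hc, mul_inv_cancel_right] at e
  exact hy2 (by rw [← eq_inv_iff_mul_eq_one]; exact e)

variable [Fintype (↥(P : Subgroup G) →* ℂˣ)] {r : ℕ} {rep : Fin r → (↥(P : Subgroup G) →* ℂˣ)}
  {idx : (↥(P : Subgroup G) →* ℂˣ) → Fin r} {M : Ideal AlgInt}
  {X : Finset (IrrCharacter G)} {μ : Fin r → IrrCharacter G} {a : IrrCharacter G → ℤ} {δ : ℤ}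

open scoped Classical in
/-- The relation obtained from the pairs of involutions. -/
theorem involution_relation (hM : IsPModular 2 M) (h : FrobSylow P m) (hm : m ≠ 0)
    (hI : OrbitIndex m rep idx) (hX : PrincipalExc M m rep X μ a 0 δ) (i₀ : Fin r)
    {x y : ↥(P : Subgroup G)} (hx1 : (x : G) ≠ 1) (hx2 : (x : G) * x = 1)
    (hy2 : (y : G) * y ≠ 1) :
    ∑ χ ∈ X, (a χ : ℚ) ^ 3 / (deg (χ : G → ℂ) : ℚ) =
      (δ : ℚ) * (m : ℚ) ^ 2 / (deg (μ i₀ : G → ℂ) : ℚ) := by
  haveI : Fact (Nat.Prime 2) := ⟨Nat.prime_two⟩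
  have hP' := pmod_prime hM
  have hy1 : (y : G) ≠ 1 := fun e => hy2 (by rw [e, one_mul])
  have hx' := mem_nonOne.mpr hx1
  have hy' := mem_nonOne.mpr hy1
  choose u hu using fun χ : IrrCharacter G =>
    char_involution_int (irr_isCharacter χ.2) (t := (x : G)) (by rw [pow_two, hx2])
  set F : G → ℂ := conv (classInd (x : G)) (classInd (x : G)) with hF
  have hclI : IsClassFunction G (classInd (x : G) : G → ℂ) := (intClassFun_classInd hP' (x : G)).1
  have hclF : IsClassFunction G F := isClassFunction_conv hclI hclI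
  set K : ℕ := Nat.card {g : G // IsConj (x : G) g} with hK
  have hlam : ∀ χ : IrrCharacter G, lam (χ : G → ℂ) (classInd (x : G)) =
      (K : ℂ) * (u χ : ℂ) / (χ : G → ℂ) 1 := fun χ => by
    rw [lam, ← hu]
    simp only [classInd, ite_mul, one_mul, zero_mul, ← Finset.sum_filter]
    rw [Finset.sum_congr rfl (g := fun _ => (χ : G → ℂ) x) fun g hg => ?_, Finset.sum_const,
      nsmul_eq_mul, hK, Nat.card_eq_fintype_card, Fintype.card_subtype]
    obtain ⟨c, rfl⟩ := isConj_iff.mp (Finset.mem_filter.mp hg).2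
    rw [isClassFunction_character (irr_isCharacter χ.2)]
  have hin : ∀ χ : IrrCharacter G, classInner F (χ : G → ℂ) =
      ((Nat.card G : ℂ)⁻¹ * (K : ℂ) ^ 2) * ((u χ : ℂ) ^ 2 / (χ : G → ℂ) 1) := fun χ => by
    have hreal : ∀ g, conj (F g) = F g := fun g => by
      simp only [hF, conv, map_sum, map_mul, classInd, apply_ite conj, map_one, map_zero]
    have h1 : lam (χ : G → ℂ) F = ((K : ℂ) * (u χ : ℂ) / (χ : G → ℂ) 1) ^ 2 := by
      rw [hF, lam_conv χ.2 hclI hclI, hlam, pow_two]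
    rw [lam, div_eq_iff (irr_one_ne_zero χ.2)] at h1
    have h2 : ∑ g : G, F g * conj ((χ : G → ℂ) g) = conj (∑ g : G, F g * (χ : G → ℂ) g) := by
      rw [map_sum]
      simp only [map_mul, hreal]
    obtain ⟨q, hq⟩ := charOne_eq_natCast (irr_isCharacter χ.2)
    rw [classInner, h2, h1, hq]
    simp only [map_mul, map_pow, map_div₀, map_natCast, map_intCast]
    have hq0 : (q : ℂ) ≠ 0 := hq ▸ irr_one_ne_zero χ.2
    field_simp
  -- no product of two involutions lies in the section of `y`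
  have hA0 : ∑ χ : IrrCharacter G with χ ∈ principalBlock M G,
      (u χ : ℂ) ^ 2 / (χ : G → ℂ) 1 * (χ : G → ℂ) (y : G) = 0 := by
    have h1 := blockPart_section_eq hM (FrobSylow.ppower (P := P) y) (isPBlock_principalBlock M) hclF
      (1 : Subgroup.centralizer ({(y : G)} : Set G)) (by simp)
    rw [OneMemClass.coe_one, mul_one] at h1
    replace h1 := h1.trans (Finset.sum_eq_zero fun b hb => ?_)
    · rw [blockPart_eq] at h1
      simp only [hin, mul_assoc, ← Finset.mul_sum] at h1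
      refine (mul_eq_zero.mp ((mul_eq_zero.mp h1).resolve_left
        (inv_ne_zero (Nat.cast_ne_zero.mpr Nat.card_pos.ne')))).resolve_left (pow_ne_zero 2 ?_)
      exact Nat.cast_ne_zero.mpr (card_conjClass_ne_zero (x : G))
    · rw [blockPart_regular_congr hM (Finset.mem_filter.mp hb).2.1 (f' := 0) (fun v hv => ?_)
        (by simp), blockPart_zero, Pi.zero_apply]
      show F ((y : G) * (v : G)) = 0
      simp only [hF, conv, classInd]
      refine Finset.sum_eq_zero fun b _ => ?_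
      by_cases hb : IsConj (x : G) b
      · by_cases hc : IsConj (x : G) (b⁻¹ * ((y : G) * (v : G)))
        · exfalso
          set w := (y : G) * (v : G) with hw
          have hinv : ∀ t : G, IsConj (x : G) t → t ^ 2 = 1 := fun t ht => by
            obtain ⟨c, rfl⟩ := isConj_iff.mp ht
            rw [conj_pow, pow_two, hx2, mul_one, mul_inv_cancel]
          have hb2 := hinv b hb
          have hc2 := hinv _ hc
          refine not_inverts h hb2 y.2 hy2 ?_
          have hbi : b⁻¹ = b := inv_eq_of_mul_eq_one_right (by rw [← pow_two, hb2])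
          have hbw : b * w * b⁻¹ = w⁻¹ := by
            rw [pow_two, hbi] at hc2
            rw [hbi]
            exact eq_inv_of_mul_eq_one_left (by rw [← hc2]; group)
          have hpw : ppt 2 w = y := ppt_mul Nat.prime_two (cent_mul_comm v)
            (FrobSylow.ppower (P := P) y) (by rwa [Subgroup.orderOf_coe])
          obtain ⟨w', hw', hcm, hk, hreg⟩ := isPPart_ppt Nat.prime_two w
          rw [hpw] at hw' hcm hk
          have h4 := ppt_conj Nat.prime_two w b
          rw [hbw, hpw] at h4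
          rw [← h4, ← hw', show ((y : G) * w')⁻¹ = (y : G)⁻¹ * w'⁻¹ by
            rw [mul_inv_rev, hcm.inv_inv.eq]]
          exact ppt_mul Nat.prime_two hcm.inv_inv (by simpa using hk) (by rwa [orderOf_inv])
        · rw [if_neg hc, mul_zero]
      · rw [if_neg hb, zero_mul]
  have hpart : ∀ Φ : IrrCharacter G → ℂ, ∑ χ : IrrCharacter G with χ ∈ principalBlock M G, Φ χ =
      ∑ χ ∈ X, Φ χ + ∑ i, Φ (μ i) := by
    intro Φ
    have hset : (Finset.univ.filter fun χ => χ ∈ principalBlock M G) =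
        X ∪ Finset.univ.image μ := by
      ext χ
      simp [hX.mem_iff]
    rw [hset, Finset.sum_union, Finset.sum_image fun i _ j _ e => hX.inj e]
    refine Finset.disjoint_left.mpr fun χ hχ hχ' => ?_
    obtain ⟨i, -, rfl⟩ := Finset.mem_image.mp hχ'
    exact hX.notMem i hχ
  have huX : ∀ χ ∈ X, u χ = a χ := fun χ hχ => by
    have h := (hu χ).symm.trans (hX.a_val χ hχ x hx')
    exact_mod_cast h
  have hδ : (δ : ℂ) * δ = 1 := by rcases hX.sign with e | e <;> simp [e]
  have htri : ∑ i, orbSum (rep i) x * orbSum (rep i) x * orbSum (rep i) y = -((m : ℂ) ^ 2) := by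
    have e : ∀ i, orbSum (rep i) x * orbSum (rep i) x * orbSum (rep i) y =
        ∑ φ ∈ ((Finset.univ : Finset (↥(P : Subgroup G) →* ℂˣ)).erase 1).filter
            (fun φ => idx φ = i),
          ∑ b ∈ clP P (x : G), ∑ c ∈ clP P (x : G), ((φ (b * c * y) : ℂˣ) : ℂ) := by
      intro i
      have hexp : orbSum (rep i) y = ∑ φ ∈ orbP (rep i), ((φ y : ℂˣ) : ℂ) := rfl
      rw [FrobSylow.filter_idx hI, hexp, Finset.mul_sum]
      refine Finset.sum_congr rfl fun φ hφ => ?_
      have hφ1 : φ ≠ 1 := fun e => one_notMem_orbP (hI.rep_ne i) (e ▸ hφ)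
      have : orbSum (rep i) x = orbSum φ x := by rw [orbSum, orbSum, orbP_eq_of_mem hφ]
      rw [this, h.orbSum_eq_class hm hφ1 hx1, Finset.sum_mul_sum, Finset.sum_mul]
      refine Finset.sum_congr rfl fun b _ => ?_
      rw [Finset.sum_mul]
      exact Finset.sum_congr rfl fun c _ => by rw [map_mul, map_mul]; simp
    have key : ∀ b ∈ clP P (x : G), ∀ c ∈ clP P (x : G), b * c * y = 1 → (y : G) * y = 1 := by
      intro b hb c hc e
      haveI := h.comm
      letI : CommGroup (P : Subgroup G) :=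
        { (inferInstance : Group (P : Subgroup G)) with mul_comm := fun a b => mul_comm' a b }
      have hinv : ∀ t : ↥(P : Subgroup G), IsConj (x : G) (t : G) → t * t = 1 := fun t ht => by
        obtain ⟨g, hg⟩ := isConj_iff.mp ht
        refine Subtype.ext ?_
        rw [Subgroup.coe_mul, ← hg, conj_mul, hx2, mul_one, mul_inv_cancel]
        rfl
      have e2 : b * c * y * (b * c * y) = 1 := by rw [e, one_mul]
      rw [mul_mul_mul_comm, mul_mul_mul_comm b c b c, hinv b (mem_clP.mp hb),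
        hinv c (mem_clP.mp hc), one_mul, one_mul] at e2
      exact congrArg Subtype.val e2
    rw [Finset.sum_congr rfl fun i _ => e i, Finset.sum_fiberwise,
      Finset.sum_erase_eq_sub (Finset.mem_univ _), Finset.sum_comm,
      Finset.sum_congr rfl fun b _ => Finset.sum_comm]
    rw [Finset.sum_eq_zero (s := clP P (x : G)) fun b hb => Finset.sum_eq_zero fun c hc => by
      rw [h.sum_dual_apply, if_neg fun e => hy2 (key b hb c hc e)]]
    simp only [MonoidHom.one_apply, Units.val_one, Finset.sum_const, h.card_clP hx1,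
      nsmul_eq_mul, mul_one]
    ring
  have hterm : ∀ i, (u (μ i) : ℂ) ^ 2 / (μ i : G → ℂ) 1 * (μ i : G → ℂ) (y : G) =
      (δ : ℂ) / (deg (μ i₀ : G → ℂ) : ℂ) *
        (orbSum (rep i) x * orbSum (rep i) x * orbSum (rep i) y) := by
    intro i
    rw [← hu, hX.mu_val i x hx', hX.mu_val i y hy', Int.cast_zero, zero_add, zero_add,
      hX.reg i i₀ 1 (by simp), char_one_eq_deg (irr_isCharacter (μ i₀).2)]
    linear_combination ((δ : ℂ) / (deg (μ i₀ : G → ℂ) : ℂ) *
      (orbSum (rep i) x * orbSum (rep i) x * orbSum (rep i) y)) * hδ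
  rw [hpart, Finset.sum_congr rfl (s₁ := Finset.univ) fun i _ => hterm i, ← Finset.mul_sum, htri,
    Finset.sum_congr rfl (g := fun χ => (a χ : ℂ) ^ 3 / (deg (χ : G → ℂ) : ℂ)) fun χ hχ => by
      rw [huX χ hχ, hX.a_val χ hχ y hy', char_one_eq_deg (irr_isCharacter χ.2)]
      ring] at hA0
  refine (Rat.cast_inj (α := ℂ)).mp ?_
  push_cast
  linear_combination hA0

omit [Fintype (↥(P : Subgroup G) →* ℂˣ)] in
open scoped Classical in
/-- The multiplicity of the trivial character on the Sylow subgroup. -/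
theorem sum_sylow (χ : IrrCharacter G) :
    ∃ k : ℕ, ∑ w : ↥(P : Subgroup G), (χ : G → ℂ) (w : G) = (Nat.card P : ℂ) * k := by
  obtain ⟨k, hk⟩ := classInner_natCast
    (isCharacter_comp (P : Subgroup G).subtype (irr_isCharacter χ.2))
    (isCharacter_linear (1 : ↥(P : Subgroup G) →* ℂˣ))
  refine ⟨k, ?_⟩
  rw [← hk, classInner, ← mul_assoc, mul_inv_cancel₀ (Nat.cast_ne_zero.mpr Nat.card_pos.ne'), one_mul]
  simp

set_option maxHeartbeats 1000000 in
omit [Fintype (↥(P : Subgroup G) →* ℂˣ)] in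
open scoped Classical in
/-- A non-elementary free Sylow subgroup lies in the kernel of a non-trivial principal character. -/
theorem exists_kernel_char (hM : IsPModular 2 M) (h : FrobSylow P m) (hm : 2 ≤ m)
    (hne : ∃ u ∈ (P : Subgroup G), u * u ≠ 1) :
    ∃ χ : IrrCharacter G, χ ∈ principalBlock M G ∧ χ ≠ ⟨fun _ => 1, isIrrCharacter_one⟩ ∧
      ∀ y ∈ (P : Subgroup G), (χ : G → ℂ) y = (χ : G → ℂ) 1 := by
  haveI : Fact (Nat.Prime 2) := ⟨Nat.prime_two⟩
  haveI := h.finite_dual.1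
  letI := Fintype.ofFinite (↥(P : Subgroup G) →* ℂˣ)
  obtain ⟨r, rep, idx, -, hcount, hrep, hidx, hmem, hconst⟩ := h.exists_orbit_index
  have hI : OrbitIndex m rep idx := ⟨hcount, hrep, hidx, hmem, hconst⟩
  set q := Nat.card (P : Subgroup G) with hq
  have hqsq : (m + 1) * (m + 1) ≤ q := sq_le_card h hne
  have hr : m + 2 ≤ r := Nat.le_of_mul_le_mul_right
    (show (m + 2) * m ≤ r * m by nlinarith) (show 0 < m by omega)
  obtain ⟨X, μ, a, d, δ, hX⟩ := h.exists_principal_exc hM (by omega) (by omega) hI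
  set e1 : IrrCharacter G := ⟨fun _ => 1, isIrrCharacter_one⟩ with he1
  have hX1 : (1 : ℤ) ≤ ∑ χ ∈ X, a χ ^ 2 := le_of_eq_of_le (by rw [hX.one_val, one_pow])
    (Finset.single_le_sum (f := fun χ => a χ ^ 2) (fun χ _ => sq_nonneg _) hX.one_mem)
  have hd : d = 0 := by
    by_contra hd
    have h1 : (1 : ℤ) ≤ d ^ 2 := by nlinarith [Int.one_le_abs hd, sq_abs d]
    have h2 := hX.norm
    have h3 : ((m : ℤ) + 1) ≤ ((r : ℤ) - 1) * d ^ 2 := by
      have : (m : ℤ) + 1 ≤ (r : ℤ) - 1 := by omega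
      nlinarith
    nlinarith [sq_nonneg (d - δ)]
  subst hd
  have hsum : ∑ χ ∈ X.erase e1, a χ ^ 2 = (m : ℤ) - 1 := by
    have h2 := hX.norm
    have hδ : δ ^ 2 = 1 := by rcases hX.sign with e | e <;> simp [e]
    have h1 := Finset.add_sum_erase X (fun χ => a χ ^ 2) hX.one_mem
    rw [hX.one_val, one_pow] at h1
    linear_combination h2 + h1 - hδ
  obtain ⟨y, hy, hy2⟩ := hne
  obtain ⟨x, hx⟩ := exists_prime_orderOf_dvd_card' (G := (P : Subgroup G)) 2 (by
    obtain ⟨k, hk⟩ := IsPGroup.iff_card.mp P.isPGroup'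
    rcases k with _ | k
    · exact absurd hk h.nontriv
    · exact ⟨2 ^ k, by rw [hk, pow_succ, mul_comm]⟩)
  have hx2 : (x : G) * x = 1 := by
    rw [← Subgroup.coe_mul, ← pow_two, orderOf_dvd_iff_pow_eq_one.mp (dvd_of_eq hx), Subgroup.coe_one]
  have hx1 : (x : G) ≠ 1 := fun e => by
    rw [show x = 1 from Subtype.ext e, orderOf_one] at hx
    omega
  obtain ⟨i₀⟩ : Nonempty (Fin r) := ⟨⟨0, by omega⟩⟩
  have hrel := involution_relation hM h (by omega) hI hX i₀ hx1 hx2 (y := ⟨y, hy⟩) hy2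
  rw [← Finset.add_sum_erase X _ hX.one_mem, hX.one_val,
    show deg (e1 : G → ℂ) = 1 from Nat.cast_injective (R := ℂ)
      ((char_one_eq_deg (irr_isCharacter e1.2)).symm.trans Nat.cast_one.symm)] at hrel
  have hsplit : ∀ χ : IrrCharacter G, ∀ f : ↥(P : Subgroup G) → ℂ,
      (∀ w ∈ nonOne P, (χ : G → ℂ) (w : G) = f w) →
      ∑ w : ↥(P : Subgroup G), (χ : G → ℂ) (w : G) =
        (deg (χ : G → ℂ) : ℂ) + ∑ w ∈ nonOne P, f w := by
    intro χ f hf
    rw [← Finset.add_sum_erase _ _ (Finset.mem_univ (1 : ↥(P : Subgroup G))), Subgroup.coe_one,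
      char_one_eq_deg (irr_isCharacter χ.2),
      show nonOne P = Finset.univ.erase 1 by ext w; simp [mem_nonOne]]
    exact congrArg _ (Finset.sum_congr rfl fun w hw => hf w (mem_nonOne.mpr fun e =>
      (Finset.mem_erase.mp hw).1 (Subtype.ext e)))
  -- the degree of the exceptional characters
  obtain ⟨k, hk⟩ := sum_sylow (P := P) (μ i₀)
  rw [hsplit (μ i₀) (fun w => (δ : ℂ) * orbSum (rep i₀) w) (fun w hw => by
    rw [hX.mu_val i₀ w hw, Int.cast_zero, zero_add]), ← Finset.mul_sum,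
    FrobSylow.sum_nonOne, h.sum_orbSum (hI.rep_ne i₀), h.orbSum_one (hI.rep_ne i₀)] at hk
  have hD : (deg (μ i₀ : G → ℂ) : ℤ) = δ * m + (q : ℤ) * k := by
    have e : (((deg (μ i₀ : G → ℂ) : ℤ)) : ℂ) = ((δ * m + (q : ℤ) * k : ℤ) : ℂ) := by
      push_cast
      linear_combination hk
    exact_mod_cast e
  by_contra hcon
  push Not at hcon
  -- the other degrees
  have hq0 : (0 : ℚ) < q := by exact_mod_cast (Nat.card_pos (α := (P : Subgroup G)))
  have hmq : (m : ℚ) + 1 ≤ q := by exact_mod_cast (le_trans (by nlinarith) hqsq : m + 1 ≤ q)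
  have hbound : ∀ χ ∈ X.erase e1,
      -((a χ : ℚ) ^ 2 / ((q : ℚ) - 1)) ≤ (a χ : ℚ) ^ 3 / (deg (χ : G → ℂ) : ℚ) ∧
        (a χ : ℚ) ^ 3 / (deg (χ : G → ℂ) : ℚ) ≤ (a χ : ℚ) ^ 2 * ((m : ℚ) - 1) / q := by
    intro χ hχ
    obtain ⟨hχ1, hχX⟩ := Finset.mem_erase.mp hχ
    obtain ⟨k, hk⟩ := sum_sylow (P := P) χ
    rw [hsplit χ (fun _ => (a χ : ℂ)) (fun w hw => hX.a_val χ hχX w hw), Finset.sum_const,
      nsmul_eq_mul] at hk
    set n := deg (χ : G → ℂ) with hn
    have hne : (n : ℤ) ≠ a χ := by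
      intro e
      obtain ⟨w, hw, hneq⟩ := hcon χ ((hX.mem_iff χ).mpr (Or.inl hχX)) hχ1
      refine hneq ?_
      rw [char_one_eq_deg (irr_isCharacter χ.2), ← hn]
      by_cases hw1 : w = 1
      · rw [hw1, char_one_eq_deg (irr_isCharacter χ.2)]
      · rw [hX.a_val χ hχX ⟨w, hw⟩ (mem_nonOne.mpr hw1), ← e, Int.cast_natCast]
    have hcard : ((nonOne P).card : ℤ) = (q : ℤ) - 1 := by
      rw [show nonOne P = Finset.univ.erase 1 by ext w; simp [mem_nonOne],
        Finset.cast_card_erase_of_mem (Finset.mem_univ _), Finset.card_univ, hq,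
        Nat.card_eq_fintype_card]
    have hkz : (n : ℤ) + ((q : ℤ) - 1) * a χ = (q : ℤ) * k := by
      rw [← hcard]
      exact_mod_cast hk
    have hpos : 0 < (n : ℤ) := by exact_mod_cast deg_pos χ.2
    have ha2 : a χ ^ 2 ≤ (m : ℤ) - 1 :=
      hsum ▸ Finset.single_le_sum (f := fun χ => a χ ^ 2) (fun χ _ => sq_nonneg _) hχ
    have habs : a χ ≤ (m : ℤ) - 1 := (Int.le_self_sq _).trans ha2
    have hmq' : (m : ℤ) + 1 ≤ q := by exact_mod_cast hmq
    have hn0 : (0 : ℚ) < n := by exact_mod_cast hpos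
    have hqm1 : (0 : ℚ) < (q : ℚ) - 1 := by
      have : (2 : ℚ) ≤ m := by exact_mod_cast hm
      linarith
    have hm1 : (0 : ℚ) ≤ (m : ℚ) - 1 := by
      have : (2 : ℚ) ≤ m := by exact_mod_cast hm
      linarith
    rcases lt_trichotomy (a χ) 0 with hneg | h0 | hpos'
    · have h1 : -a χ * ((q : ℤ) - 1) ≤ n := by nlinarith
      have h1' : -(a χ : ℚ) * ((q : ℚ) - 1) ≤ n := by exact_mod_cast h1
      have hA : (a χ : ℚ) < 0 := by exact_mod_cast hneg
      refine ⟨?_, le_trans ?_ (div_nonneg (mul_nonneg (sq_nonneg _) hm1) hq0.le)⟩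
      · rw [← neg_div, div_le_div_iff₀ hqm1 hn0]
        nlinarith [mul_le_mul_of_nonneg_left h1' (sq_nonneg (a χ : ℚ))]
      · exact div_nonpos_of_nonpos_of_nonneg (by nlinarith [sq_nonneg (a χ : ℚ)]) hn0.le
    · exact absurd h0 (hX.a_ne χ hχX)
    · have h1 : (q : ℤ) ≤ n := by
        have h2 : (n : ℤ) - a χ = (q : ℤ) * ((k : ℤ) - a χ) := by linear_combination hkz
        have h3 : 1 ≤ (k : ℤ) - a χ := by
          by_contra hk1
          rcases (show (k : ℤ) - a χ = 0 ∨ (k : ℤ) - a χ ≤ -1 by omega) with e | e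
          · rw [e, mul_zero, sub_eq_zero] at h2
            exact hne h2
          · nlinarith
        nlinarith
      have h1' : (q : ℚ) ≤ n := by exact_mod_cast h1
      have hA : (0 : ℚ) < (a χ : ℚ) := by exact_mod_cast hpos'
      have hA' : (a χ : ℚ) ≤ (m : ℚ) - 1 := by exact_mod_cast habs
      refine ⟨le_trans (neg_nonpos.mpr (div_nonneg (sq_nonneg _) hqm1.le))
        (div_nonneg (pow_nonneg hA.le 3) hn0.le), ?_⟩
      rw [div_le_div_iff₀ hn0 hq0]
      calc (a χ : ℚ) ^ 3 * q = (a χ : ℚ) ^ 2 * ((a χ : ℚ) * q) := by ring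
        _ ≤ (a χ : ℚ) ^ 2 * (((m : ℚ) - 1) * n) :=
          mul_le_mul_of_nonneg_left (mul_le_mul hA' h1' hq0.le hm1) (sq_nonneg _)
        _ = (a χ : ℚ) ^ 2 * ((m : ℚ) - 1) * n := by ring
  set S := ∑ χ ∈ X.erase e1, (a χ : ℚ) ^ 3 / (deg (χ : G → ℂ) : ℚ) with hS
  have hsum' : ∑ χ ∈ X.erase e1, (a χ : ℚ) ^ 2 = (m : ℚ) - 1 := by exact_mod_cast hsum
  have hlow : -(((m : ℚ) - 1) / ((q : ℚ) - 1)) ≤ S := by
    rw [← hsum', Finset.sum_div, ← Finset.sum_neg_distrib]
    exact Finset.sum_le_sum fun χ hχ => (hbound χ hχ).1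
  have hupp : S ≤ ((m : ℚ) - 1) * ((m : ℚ) - 1) / q := by
    conv_rhs => rw [← hsum', hsum', ← hsum', Finset.sum_mul, Finset.sum_div]
    exact Finset.sum_le_sum fun χ hχ => by simpa [hsum'] using (hbound χ hχ).2
  have hm2 : (2 : ℚ) ≤ m := by exact_mod_cast hm
  have hq2 : ((m : ℚ) + 1) * ((m : ℚ) + 1) ≤ q := by exact_mod_cast hqsq
  have hlt : ((m : ℚ) - 1) / ((q : ℚ) - 1) < 1 := by
    rw [div_lt_one (by nlinarith)]
    nlinarith
  set D := deg (μ i₀ : G → ℂ) with hDdef
  have hD0 : (0 : ℚ) < D := by exact_mod_cast deg_pos (μ i₀).2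
  norm_num at hrel
  rcases hX.sign with e | e <;> subst e
  · rcases Nat.eq_zero_or_pos k with hk0 | hk0
    · subst hk0
      have hDm : (D : ℚ) = m := by
        have : (D : ℤ) = m := by simpa using hD
        exact_mod_cast this
      rw [hDm, pow_two, Int.cast_one, one_mul, mul_div_assoc, div_self (by positivity), mul_one] at hrel
      have h1 : ((m : ℚ) - 1) * ((m : ℚ) - 1) / q < (m : ℚ) - 1 := by
        rw [div_lt_iff₀ hq0]
        nlinarith
      linarith
    · have h1 : (q : ℚ) + m ≤ D := by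
        have h0 : (q : ℤ) + m ≤ D := by
          rw [hD, one_mul]
          nlinarith [show (1 : ℤ) ≤ k by exact_mod_cast hk0, show (0 : ℤ) ≤ q by positivity]
        exact_mod_cast h0
      rw [Int.cast_one, one_mul] at hrel
      have h2 : (m : ℚ) ^ 2 / D ≤ (m : ℚ) ^ 2 / ((q : ℚ) + m) :=
        div_le_div_of_nonneg_left (sq_nonneg _) (by positivity) h1
      have h3 : (m : ℚ) ^ 2 / ((q : ℚ) + m) < 1 - ((m : ℚ) - 1) / ((q : ℚ) - 1) := by
        rw [one_sub_div (by nlinarith), div_lt_div_iff₀ (by positivity) (by nlinarith)]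
        nlinarith
      linarith
  · have h1 : 0 < (m : ℚ) ^ 2 / D := by positivity
    push_cast at hrel
    rw [neg_one_mul, neg_div] at hrel
    linarith

end Cfsg.Agent.Char.PrimeInertia
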