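import Cfsg.Agent.Lib.Char.PrimeInertia.Exponent
import Cfsg.Agent.Lib.Char.FreeInvolution.Main
import Cfsg.Agent.Lib.Char.NoTwoPStrongEmb
import Cfsg.Agent.S0205
import Mathlib

/-!
# The principal 2-block with abelian Sylow subgroup and prime inertial index
-/

set_option autoImplicit false
set_option linter.unusedSectionVars false
set_option linter.style.haveILetI false

namespace Cfsg.Agent.Char.PrimeInertia

open Cfsg Cfsg.Agent.Char Cfsg.Agent.Char.FreeInv

universe u

variable {G : Type u} [Group G] [Fintype G] {P : Sylow 2 G} {m : ℕ}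

/-- The centralizer of an abelian Sylow 2-subgroup is solvable. -/
theorem isSolvable_centralizer (hab : IsMulCommutative (P : Subgroup G)) :
    Group.IsSolvable (Subgroup.centralizer ((P : Subgroup G) : Set G)) := by
  haveI : Fact (Nat.Prime 2) := ⟨Nat.prime_two⟩
  set C := Subgroup.centralizer ((P : Subgroup G) : Set G) with hC
  haveI := hab
  have hPC : (P : Subgroup G) ≤ C := Subgroup.le_centralizer _
  set Q := (P : Subgroup G).subgroupOf C with hQ
  haveI : Q.Normal := ⟨fun q hq c => by
    have h := Subgroup.mem_centralizer_iff.mp c.2 _ (Subgroup.mem_subgroupOf.mp hq)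
    have e : ((c * q * c⁻¹ : C) : G) = (q : G) := by
      rw [Subgroup.coe_mul, Subgroup.coe_mul, InvMemClass.coe_inv, ← h, mul_inv_cancel_right]
    exact Subgroup.mem_subgroupOf.mpr (e ▸ Subgroup.mem_subgroupOf.mp hq)⟩
  have hQs : Group.IsSolvable Q :=
    Group.isSolvable_of_comm fun a b => Subtype.ext (Subtype.ext
      (comm_of_isMulCommutative hab (Subgroup.mem_subgroupOf.mp a.2) (Subgroup.mem_subgroupOf.mp b.2)))
  have hodd : Odd (Nat.card (C ⧸ Q)) := by
    rw [← Subgroup.index_eq_card, ← Nat.not_even_iff_odd, even_iff_two_dvd]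
    intro h2
    exact (P.subtype hPC).not_dvd_index (by rwa [Sylow.coe_subtype])
  haveI := hQs
  haveI : Group.IsSolvable (C ⧸ Q) := S0205.result hodd
  exact Group.isSolvable_of_ker_le_range Q.subtype (QuotientGroup.mk' Q) (by simp)

theorem isSolvable_normalizer (hab : IsMulCommutative (P : Subgroup G)) (hm : m.Prime)
    (hcard : Nat.card (autGrp P) = m) :
    Group.IsSolvable (Subgroup.normalizer ((P : Subgroup G) : Set G)) := by
  haveI := Fact.mk hm
  set N := Subgroup.normalizer ((P : Subgroup G) : Set G)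
  haveI := isSolvable_centralizer hab
  haveI : IsCyclic (autGrp P) := isCyclic_of_prime_card hcard
  have hs : Group.IsSolvable (autGrp P) := Group.isSolvable_of_comm fun a b => by
    obtain ⟨g, hg⟩ := IsCyclic.exists_generator (α := autGrp P)
    obtain ⟨i, rfl⟩ := hg a
    obtain ⟨j, rfl⟩ := hg b
    exact zpow_mul_comm g i j
  haveI : Group.IsSolvable (P : Subgroup G).normalizerMonoidHom.range := hs
  refine Group.isSolvable_of_ker_le_range
    (Subgroup.inclusion (Subgroup.centralizer_le_normalizer _ :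
      Subgroup.centralizer ((P : Subgroup G) : Set G) ≤ N))
    ((P : Subgroup G).normalizerMonoidHom.rangeRestrict) ?_
  intro n hn
  rw [MonoidHom.ker_rangeRestrict, Subgroup.normalizerMonoidHom_ker] at hn
  exact ⟨⟨n, Subgroup.mem_subgroupOf.mp hn⟩, rfl⟩

/-- A group that is a normal subgroup of odd order times the normalizer is solvable. -/
theorem isSolvable_of_split (hab : IsMulCommutative (P : Subgroup G)) (hm : m.Prime)
    (hcard : Nat.card (autGrp P) = m) (W : Subgroup G) [W.Normal] (hW : ¬ 2 ∣ Nat.card W)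
    (h : W ⊔ Subgroup.normalizer ((P : Subgroup G) : Set G) = ⊤) : Group.IsSolvable G := by
  haveI : Group.IsSolvable W :=
    S0205.result (Nat.not_even_iff_odd.mp fun he => hW (even_iff_two_dvd.mp he))
  haveI := isSolvable_normalizer hab hm hcard
  haveI : Group.IsSolvable (G ⧸ W) := by
    refine Group.isSolvable_of_surjective (f := (QuotientGroup.mk' W).comp
      (Subgroup.normalizer ((P : Subgroup G) : Set G)).subtype) fun z => ?_
    obtain ⟨g, rfl⟩ := QuotientGroup.mk'_surjective W z
    obtain ⟨w, hw, n, hn, rfl⟩ := Subgroup.mem_sup_of_normal_left.mp (h ▸ Subgroup.mem_top g)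
    refine ⟨⟨n, hn⟩, ?_⟩
    rw [map_mul, (QuotientGroup.eq_one_iff w).mpr hw |> fun e => (e : QuotientGroup.mk' W w = 1), one_mul]
    all_goals rfl
  exact Group.isSolvable_of_ker_le_range W.subtype (QuotientGroup.mk' W) (by simp)

/-- A non-trivial principal character with the Sylow subgroup in its kernel makes the group solvable. -/
theorem isSolvable_of_kernel_char {M : Ideal AlgInt} (hM : IsPModular 2 M) (h : FrobSylow P m)
    (hm : m.Prime) {χ : IrrCharacter G} (hχ : χ ∈ principalBlock M G)
    (hne : χ ≠ ⟨fun _ => 1, isIrrCharacter_one⟩)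
    (hker : ∀ y ∈ (P : Subgroup G), (χ : G → ℂ) y = (χ : G → ℂ) 1) : Group.IsSolvable G := by
  classical
  haveI : Fact (Nat.Prime 2) := ⟨Nat.prime_two⟩
  haveI := Fact.mk hm
  set N := Subgroup.normalizer ((P : Subgroup G) : Set G) with hN
  set C := Subgroup.centralizer ((P : Subgroup G) : Set G) with hC
  set K := blockKerSub ({χ} : Set (IrrCharacter G)) with hK
  haveI : K.Normal := blockKerSub_normal _
  have hcard : Nat.card (autGrp P) = m := relIndex_eq_card_autGrp.symm.trans h.index
  have hPK : (P : Subgroup G) ≤ K := fun y hy ψ hψ => by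
    rw [Set.mem_singleton_iff.mp hψ]; exact hker y hy
  have hfr := Sylow.normalizer_sup_eq_top (N := K) (P.subtype hPK)
  rw [Sylow.coe_subtype, Subgroup.map_subgroupOf_eq_of_le hPK, ← hN] at hfr
  by_cases hcase : N ⊓ K ≤ C
  · -- the kernel has a normal complement
    have hnp : HasNormalPComplement 2 K := by
      refine Fusion.hnpc_of_normalizer_le_centralizer (P.subtype hPK) fun k hk => ?_
      have hkN : (k : G) ∈ N := by
        rw [Subgroup.mem_normalizer_iff]
        intro w
        refine ⟨fun hw => (Subgroup.mem_normalizer_iff.mp hk ⟨w, hPK hw⟩).mp hw, fun hw => ?_⟩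
        have hwK : w ∈ K := by
          have := K.mul_mem (K.mul_mem (K.inv_mem k.2) (hPK hw)) k.2
          simpa [mul_assoc] using this
        exact (Subgroup.mem_normalizer_iff.mp hk ⟨w, hwK⟩).mpr hw
      exact fun q hq => Subtype.ext (Subgroup.mem_centralizer_iff.mp (hcase ⟨hkN, k.2⟩) (q : G) hq)
    haveI : Group.IsSolvable K := by
      have hR := Fusion.hnpc_iff.mp hnp
      haveI : Group.IsSolvable (pResidual 2 K) := S0205.result (Nat.coprime_two_right.mp hR)
      haveI : Group.IsSolvable (K ⧸ pResidual 2 K) := by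
        haveI := (Fusion.isPGroup_quotient_pResidual (p := 2) (G := K)).isNilpotent
        infer_instance
      exact Group.isSolvable_of_ker_le_range (pResidual 2 K).subtype (QuotientGroup.mk' (pResidual 2 K)) (by simp)
    haveI : Group.IsSolvable (G ⧸ K) := S0205.result (by
      rw [← Subgroup.index_eq_card, ← Nat.not_even_iff_odd, even_iff_two_dvd]
      exact fun h2 => P.not_dvd_index (h2.trans (Subgroup.index_dvd_of_le hPK)))
    exact Group.isSolvable_of_ker_le_range K.subtype (QuotientGroup.mk' K) (by simp)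
  · exfalso
    obtain ⟨n₀, hn₀, hn₀C⟩ := SetLike.not_le_iff_exists.mp hcase
    let π : N →* autGrp P := (P : Subgroup G).normalizerMonoidHom.rangeRestrict
    have hπC : ∀ n : N, π n = 1 → (n : G) ∈ C := fun n hn => by
      have h1 : n ∈ π.ker := hn
      change n ∈ ((P : Subgroup G).normalizerMonoidHom.rangeRestrict).ker at h1
      rw [MonoidHom.ker_rangeRestrict, Subgroup.normalizerMonoidHom_ker] at h1
      exact Subgroup.mem_subgroupOf.mp h1
    have hz : Subgroup.zpowers (π ⟨n₀, hn₀.1⟩) = ⊤ :=
      zpowers_eq_top_of_prime_card hcard fun e => hn₀C (hπC _ e)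
    have hCK : C ≤ K := by
      intro c hc
      -- the odd part of an element of the centralizer
      obtain ⟨w, v, hv, -, hk, hvr⟩ := exists_isPPart Nat.prime_two (⟨c, hc⟩ : C)
      have hwv : (w : G) * v = c := congrArg Subtype.val hv
      refine hwv ▸ K.mul_mem (hPK ?_) ?_
      · obtain ⟨i, hi⟩ := hk
        have hzp : IsPGroup 2 (Subgroup.zpowers (w : G)) :=
          IsPGroup.of_card (n := i) (by rw [Nat.card_zpowers, Subgroup.orderOf_coe, hi])
        have hnn : Subgroup.zpowers (w : G) ≤ Subgroup.normalizer ((P : Subgroup G) : Set G) :=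
          Subgroup.zpowers_le.mpr (Subgroup.centralizer_le_normalizer _ w.2)
        rw [← P.is_maximal' (hzp.to_sup_of_normal_right' P.isPGroup' hnn) le_sup_right]
        exact Subgroup.mem_sup_left (Subgroup.mem_zpowers _)
      · obtain ⟨y, hy⟩ : ∃ y : (P : Subgroup G), (y : G) ≠ 1 := by
          haveI : Nontrivial (P : Subgroup G) := Finite.one_lt_card_iff_nontrivial.mp
            ((Nat.card_pos).nat_succ_le.lt_of_ne' h.nontriv)
          obtain ⟨y, hy⟩ := exists_ne (1 : (P : Subgroup G))
          exact ⟨y, fun e => hy (Subtype.ext e)⟩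
        have hvC : (v : G) ∈ Subgroup.centralizer ({(y : G)} : Set G) :=
          Subgroup.mem_centralizer_singleton_iff.mpr (Subgroup.mem_centralizer_iff.mp v.2 _ y.2).symm
        have h1 := h.principal_const hM hχ hy ⟨_, hvC⟩ (by
          rwa [Subgroup.orderOf_mk, Subgroup.orderOf_coe])
        rw [char_mul_of_ker (irr_isCharacter χ.2) (hker y y.2) (v : G), hker y y.2] at h1
        intro ψ hψ
        rw [Set.mem_singleton_iff.mp hψ]
        exact h1
    have hNK : N ≤ K := by
      intro n hn
      obtain ⟨i, hi⟩ := Subgroup.mem_zpowers_iff.mp (hz ▸ Subgroup.mem_top (π ⟨n, hn⟩))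
      have h1 := hπC ((⟨n₀, hn₀.1⟩ : N) ^ (-i) * ⟨n, hn⟩) (by
        rw [map_mul, map_zpow, zpow_neg, hi, inv_mul_cancel])
      have h2 := K.mul_mem (Subgroup.zpow_mem K hn₀.2 i) (hCK h1)
      rwa [Subgroup.coe_mul, SubgroupClass.coe_zpow, ← mul_assoc, ← zpow_add, add_neg_cancel,
        zpow_zero, one_mul] at h2
    have hKtop : K = ⊤ := top_le_iff.mp (hfr ▸ sup_le hNK le_rfl)
    have hall : ∀ g : G, (χ : G → ℂ) g = (χ : G → ℂ) 1 := fun g => by
      have hg : g ∈ K := hKtop ▸ Subgroup.mem_top g
      exact hg χ rfl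
    refine hne (Subtype.ext ?_)
    have h1 := irr_self χ.2
    rw [classInner] at h1
    simp only [hall, Finset.sum_const, Finset.card_univ, nsmul_eq_mul, ← Nat.card_eq_fintype_card]
      at h1
    rw [← mul_assoc, inv_mul_cancel₀ (Nat.cast_ne_zero.mpr Nat.card_pos.ne'), one_mul] at h1
    obtain ⟨d, hd⟩ := charOne_eq_natCast (irr_isCharacter χ.2)
    rw [hd, map_natCast] at h1
    have : d * d = 1 := by exact_mod_cast h1
    funext g
    rw [hall, hd, mul_eq_one.mp this |>.1, Nat.cast_one]

/-- The invariants when the group has no quotient of order two. -/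
theorem top_case {M : Ideal AlgInt} (hM : IsPModular 2 M) (hab : IsMulCommutative (P : Subgroup G))
    (hm : m.Prime) (hcard : Nat.card (autGrp P) = m) (htop : pResidual 2 G = ⊤) :
    blockRank 2 (principalBlock M G) = m ∧
      (¬ Group.IsSolvable G → Nat.card (principalBlock M G) = Nat.card (P : Subgroup G)) := by
  classical
  haveI : Fact (Nat.Prime 2) := ⟨Nat.prime_two⟩
  haveI := Fact.mk hm
  have hfix : ∀ u : (P : Subgroup G), (∀ α ∈ autGrp P, α u = u) → u = 1 := fun u hu =>
    eq_one_of_fixed hab htop hu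
  have hfree := free_of_prime hm hcard hfix
  haveI : IsCyclic (autGrp P) := isCyclic_of_prime_card hcard
  have hcomm : ∀ α ∈ autGrp P, ∀ β ∈ autGrp P, α * β = β * α := fun α hα β hβ => by
    obtain ⟨g, hg⟩ := IsCyclic.exists_generator (α := autGrp P)
    obtain ⟨i, hi⟩ := hg ⟨α, hα⟩
    obtain ⟨j, hj⟩ := hg ⟨β, hβ⟩
    have e := zpow_mul_comm g i j
    rw [show g ^ i = ⟨α, hα⟩ from hi, show g ^ j = ⟨β, hβ⟩ from hj] at e
    exact congrArg Subtype.val e
  obtain ⟨α, hα, hα1⟩ : ∃ α ∈ autGrp P, α ≠ 1 := by
    haveI : Nontrivial (autGrp P) := Finite.one_lt_card_iff_nontrivial.mp (hcard ▸ hm.one_lt)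
    obtain ⟨a, ha⟩ := exists_ne (1 : autGrp P)
    exact ⟨a, a.2, fun e => ha (Subtype.ext e)⟩
  have h1 : Nat.card (P : Subgroup G) ≠ 1 := fun e => hα1 (MulEquiv.ext fun u => by
    haveI := (Nat.card_eq_one_iff_unique.mp e).1
    exact Subsingleton.elim _ _)
  have h := frobSylow hab hcard h1 hfree
  obtain ⟨r, hr, hk⟩ := card_eq_rank_add hM h
  by_cases hsol : Group.IsSolvable G
  · refine ⟨?_, fun hn => absurd hsol hn⟩
    have hcore := NoTwoP.core_sup_normalizer hsol P fun a ha b hb => comm_of_isMulCommutative hab ha hb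
    haveI := Solv.pPrimeCore_normal (G := G) 2
    obtain ⟨e, he, he1, -, hcl⟩ := card_of_normal hM hab hcomm hfree ⟨α, hα, hα1⟩
      (Nat.prime_two.coprime_iff_not_dvd.mp (Fusion.card_pPrimeCore_coprime 2 G).symm)
      fun g => by
        obtain ⟨w, hw, n, hn, e⟩ := Subgroup.mem_sup_of_normal_left.mp (hcore ▸ Subgroup.mem_top g)
        exact ⟨w, hw, n, hn, e.symm⟩
    obtain rfl := ((Nat.dvd_prime hm).mp (hcard ▸ he)).resolve_left he1
    rw [hk, ← hr] at hcl
    exact Nat.eq_of_mul_eq_mul_right hm.pos (by linarith [hcl, pow_two e])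
  by_cases hel : ∀ u ∈ (P : Subgroup G), u * u = 1
  · suffices hmain : Nat.card (principalBlock M G) = Nat.card (P : Subgroup G) ∧ r = 1 by
      refine ⟨?_, fun _ => hmain.1⟩
      obtain ⟨e, rfl⟩ := hmain
      omega
    obtain ⟨i, hi⟩ := IsPGroup.iff_card.mp P.isPGroup'
    obtain ⟨x, hx⟩ : ∃ x : (P : Subgroup G), x ≠ 1 := by
      haveI : Nontrivial (P : Subgroup G) := Finite.one_lt_card_iff_nontrivial.mp
        ((Nat.card_pos).nat_succ_le.lt_of_ne' h1)
      exact exists_ne 1
    have hm3 : 3 ≤ m := by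
      obtain ⟨t, ht⟩ := hcard ▸ odd_card_autGrp hab
      have := hm.two_le
      omega
    by_cases h8 : 8 ≤ Nat.card (P : Subgroup G)
    · obtain ⟨W, hWodd, hNW, hcent⟩ := exists_signalizer hab hel h8 hfree
      by_cases hHtop : W ⊔ Subgroup.normalizer ((P : Subgroup G) : Set G) = ⊤
      · haveI : W.Normal := Subgroup.normalizer_eq_top_iff.mp (top_le_iff.mp
          (hHtop ▸ sup_le Subgroup.le_normalizer hNW))
        exact absurd (isSolvable_of_split hab hm hcard W hWodd hHtop) hsol
      · obtain ⟨H, π, hπ, c⟩ := exists_emb hab hel h8 hcomm hfree hWodd hNW hcent hHtop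
        refine ⟨c.card_principal hπ hM hx, ?_⟩
        have e := c.card_aut hx
        rw [hcard, ← hr] at e
        exact Nat.eq_of_mul_eq_mul_right hm.pos (by omega : r * m = 1 * m)
    · have h4 : Nat.card (P : Subgroup G) = 4 := by
        rcases i with _ | _ | _ | i
        · exact absurd (hi.trans (pow_zero 2)) h1
        · have h2 : r * m = 1 := by
            rw [hi] at hr
            norm_num at hr
            omega
          have := Nat.eq_one_of_mul_eq_one_left h2
          omega
        · exact hi.trans (by norm_num)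
        · exfalso
          have h2 : 2 ^ 3 ≤ 2 ^ (i + 3) := Nat.pow_le_pow_right (by norm_num) (by omega)
          omega
      obtain ⟨K, hc⟩ := exists_compl hab x.2 (hel _ x.2) (hnpc_of_free hab (hfree x hx))
      refine ⟨(hc.card_small hM (by omega)).trans rfl, ?_⟩
      have hr' : r * m = 3 := by omega
      rcases (Nat.dvd_prime Nat.prime_three).mp (⟨m, hr'.symm⟩ : r ∣ 3) with e | e
      · exact e
      · subst e; omega
  · push Not at hel
    obtain ⟨χ, hχ, hne, hker⟩ := exists_kernel_char hM h hm.two_le hel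
    exact absurd (isSolvable_of_kernel_char hM h hm hχ hne hker) hsol

end Cfsg.Agent.Char.PrimeInertia
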